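import Cfsg.Agent.H92.NE.Syl
import Cfsg.Agent.H214.XR.RankTwo

/-!
# S4791 + S4927: the height theorem for groups of Lie type, rank two (helper482)

The setting of `H92.NE.exists_forms`: one functional in the eigenspace `Lam` on which no root vanishes, `|Lam| = p ^ 2`:
`x0 = kJ`.
-/

set_option autoImplicit false
set_option linter.unusedSectionVars false

namespace Cfsg.Agent.H482.XE

open CoxeterSystem Cfsg Cfsg.Lie Cfsg.Lie.ChevalleyDatum
open Cfsg.Agent.ChevalleyStructure Cfsg.Agent.ChevalleyStructure.Elts Cfsg.Agent.ChevalleyStructure.CoxeterGeom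
  Cfsg.Agent.ChevalleyStructure.CoxeterGeomTypes Cfsg.Agent.ChevalleyStructure.NPerm
open Cfsg.Agent.Tits.Roots Cfsg.Agent.Tits.Core Cfsg.Agent.Nodes Cfsg.Agent.Nodes.Reps Cfsg.Agent.Nodes.BNOf
  Cfsg.Agent.Nodes.RGDChev Cfsg.Agent.Nodes.Bruhat
open Cfsg.Agent.KFacts.RgdField Cfsg.Agent.KFacts.RgdChevCoord Cfsg.Agent.BpExc.TorCent Cfsg.Agent.BpExc.TorChev
open Cfsg.Agent.GpExc.Field Cfsg.Agent.BpExc.Tow Cfsg.Agent.BpExc.TowChev Cfsg.Agent.BpExc.Fr
  Cfsg.Agent.BpExc.LangFr Cfsg.Agent.H795.SetCent Cfsg.Agent.H795.Toral Cfsg.Agent.H795.Core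
  Cfsg.Agent.H795.RootConn Cfsg.Agent.H795.SetTor Cfsg.Agent.H795.TorSub Cfsg.Agent.H129.TorusChar
  Cfsg.Agent.H129.TorusUntw
  Cfsg.Agent.H129.WData Cfsg.Agent.H795.Reduce Cfsg.Agent.H795.LangT Cfsg.Agent.H123.ExcZ
  Cfsg.Agent.BpExc Cfsg.Agent.H210.EL Cfsg.Agent.H440.TD4
open Cfsg.Agent.H92.NE

universe u v

variable {D : ChevalleyDatum} {l : ℕ} {M : CoxeterMatrix (Fin l)} {hp : IsType D l M}

section main

variable {k : Type u} [Field k] [IsAlgClosed k] {r e : ℕ} [hr : Fact r.Prime] [hcr : CharP k r] (hk : LocFin k)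
  {σ : MulAut ↥(D.group k)} {g : (Fin l → ℤ) ≃+ (Fin l → ℤ)}
  {G : Type v} [Group G] [Finite G] {p : ℕ} [hpp : Fact p.Prime] {f : G →* ↥(D.group k)} {Mi : Ideal AlgInt}

include hk in
/-- **`x0 = kJ`.** -/
theorem x0_eq_kJ_of_lam (hM : IsPModular p Mi) (hA : H795.AbIrr p G) (hd : p ∣ Nat.card G)
    (hset : Setup hp p r e f σ g) (hpr : p ≠ r) (hW : ¬ p ∣ Nat.card M.Group)
    {dB : ℕ} {B : Fin l → Fin l → ℤ} (hB : InvC D l dB B) (hdB : dB ≠ 0) (w : M.Group)
    {c0 : Fin l → ZMod p} (hc0 : c0 ∈ Lam hp p (r ^ e) g w)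
    (hreg : ∀ a, IsRoot M.toCoxeterSystem hp.isCartan a → lam c0 a ≠ 0)
    (hcard : Nat.card ↥(Lam hp p (r ^ e) g w) = p ^ 2) :
    H674.XZ.x0 p Mi G = H508.XR.kJ p Mi G := by
  classical
  have hpk : (p : k) ≠ 0 := by
    intro h
    have h1 := (CharP.cast_eq_zero_iff k r p).1 h
    exact hpr.symm ((Nat.prime_dvd_prime_iff_eq hr.out hpp.out).1 h1)
  have : NeZero (p : k) := ⟨hpk⟩
  obtain ⟨ζ, hζ⟩ := HasEnoughRootsOfUnity.exists_primitiveRoot k p
  have hζ1 := hζ.pow_eq_one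
  have hζinj : ∀ x y : ZMod p, ζ ^ x.val = ζ ^ y.val → x = y := fun x y h =>
    ZMod.val_injective _ (hζ.pow_inj (ZMod.val_lt x) (ZMod.val_lt y) h)
  -- the frame
  have H := tow hp M.toCoxeterSystem hk r
  obtain ⟨nw, hnw⟩ := exists_rp M.toCoxeterSystem H.nsys w
  obtain ⟨u, hu⟩ := lang_all hp M.toCoxeterSystem hset.e_pos hset.frob hset.fr 1 nw
  have hu' : nw = u⁻¹ * σ u := by
    rw [map_one, one_mul] at hu
    exact hu
  set θ : (Fin l → ℤ) ≃+ (Fin l → ℤ) := g.trans (repAut M.toCoxeterSystem hp.isCartan w) with hθdef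
  have hθ1 : ∀ x, θ x = rep M.toCoxeterSystem hp.isCartan w (g x) := fun x => rfl
  have F1 : Fr M.toCoxeterSystem hp.isCartan (TT D k) (XX D l k) (ct σ u) θ := by
    have h1 := Fr.conj H (by rw [hu'] at hnw; exact hnw : Rp M.toCoxeterSystem H.nsys w (u⁻¹ * σ u))
    rw [TL_eq hp hk, XL_eq hp hk] at h1
    exact h1.mul hset.fr
  have hσ1 : IsFrob r e (ct σ u) := hset.frob.conj_mul _
  -- the elements of functionals
  have helt : ∀ c : ↥(Lam hp p (r ^ e) g w), ∃ t ∈ TP hp p (ct σ u), t ^ p = 1 ∧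
      ∀ x, cX hp t x = ζ ^ (lam c.1 x).val := by
    rintro ⟨c, hc⟩
    obtain ⟨t, ht, hX⟩ := exists_elt hp (k := k) hB hdB (N := p) hζ1 (lamHom c)
    have h1 : t ^ p = 1 := by
      refine cX_inj hp (pow_mem ht _) (one_mem _) fun i => ?_
      rw [cX_pow hp ht, cX_one, hX, ← pow_mul, mul_comm, pow_mul, hζ1, one_pow]
    refine ⟨t, ⟨ht, ?_, 1, by rw [pow_one]; exact h1⟩, h1, hX⟩
    refine cX_inj hp ((F1.tor t).2 ht) ht fun i => ?_
    obtain ⟨y, hy⟩ := θ.surjective (sr i)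
    rw [← hy, cX_sigma hp M.toCoxeterSystem hσ1 F1 ht, hX, hX]
    have h1 : lamHom c (θ y) = ((r ^ e : ℕ) : ZMod p) * lamHom c y := hc y
    rw [h1, pow_cast' hζ1]
  choose tt httT http httX using helt
  -- the regular element
  have hroot : ∀ a : Rt hp, cX hp (tt ⟨c0, hc0⟩) a.1 ≠ 1 := by
    rintro ⟨a, ha⟩ h1
    apply hreg a ha
    apply hζinj
    rw [← httX ⟨c0, hc0⟩, h1, ZMod.val_zero, pow_zero]
  obtain ⟨P, hP⟩ := exists_sylow (u := u) hk hset hpr hW (s := fun _ => tt ⟨c0, hc0⟩) (fun _ => httT _) hroot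
  have hmemP : ∀ x : G, x ∈ (P : Subgroup G) ↔ u⁻¹ * f x * u ∈ TP hp p (ct σ u) := by
    intro x
    rw [← mem_P0, ← hP]
  have hab : ∀ x ∈ (P : Subgroup G), ∀ y ∈ (P : Subgroup G), x * y = y * x := by
    intro x hx y hy
    rw [hP] at hx hy
    exact P0_comm hset hx hy
  -- the elements of the group
  have hex : ∀ c : ↥(Lam hp p (r ^ e) g w), ∃ x ∈ (P : Subgroup G), f x = u * tt c * u⁻¹ := by
    intro c
    obtain ⟨x, hx, hxt⟩ := exists_pre hset (httT c)
    exact ⟨x, by rw [hP]; exact hx, hxt⟩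
  choose el helP helf using hex
  have help : ∀ c, el c ^ p = 1 := by
    intro c
    apply hset.inj
    rw [map_pow, helf, conj_pow, http, map_one, mul_one, mul_inv_cancel]
  have hlam_ext : ∀ c c' : Fin l → ZMod p, (∀ x, lam c x = lam c' x) → c = c' := by
    intro c c' h
    funext i
    have := h (sr i)
    rwa [lam_sr, lam_sr] at this
  have h2 : Nat.card {x : G // x ∈ (P : Subgroup G) ∧ x ^ p = 1} = p ^ 2 := by
    rw [← hcard]
    refine (Nat.card_congr (Equiv.ofBijective (fun c : ↥(Lam hp p (r ^ e) g w) =>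
      (⟨el c, helP c, help c⟩ : {x : G // x ∈ (P : Subgroup G) ∧ x ^ p = 1})) ⟨?_, ?_⟩)).symm
    · intro c c' h
      have h1 : el c = el c' := congrArg Subtype.val h
      have h3 : u * tt c * u⁻¹ = u * tt c' * u⁻¹ := by rw [← helf, ← helf, h1]
      have h4 : tt c = tt c' := by
        have := mul_right_cancel h3
        exact mul_left_cancel this
      apply Subtype.ext
      apply hlam_ext
      intro x
      apply hζinj
      rw [← httX, ← httX, h4]
    · rintro ⟨x, hx, hxp⟩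
      have ht := (hmemP x).1 hx
      have htp : (u⁻¹ * f x * u) ^ p = 1 := by
        have h1 : u⁻¹ * f x * u = u⁻¹ * f x * u⁻¹⁻¹ := by rw [inv_inv]
        rw [h1, conj_pow, ← map_pow, hxp, map_one, mul_one, mul_inv_cancel]
      obtain ⟨b, hb⟩ := exists_log hp hζ ht.1 htp
      have hlamb : ∀ y, lam (fun i => b (sr i)) y = b y := by
        intro y
        exact ext_sr (lamHom (fun i => b (sr i))) b (fun j => by
          show lam (fun i => b (sr i)) (sr j) = b (sr j)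
          rw [lam_sr]) y
      have hbL : (fun i => b (sr i)) ∈ Lam hp p (r ^ e) g w := by
        intro y
        rw [hlamb, hlamb]
        apply hζinj
        rw [pow_cast' hζ1, ← hb, ← hb, ← hθ1]
        have h1 := cX_sigma hp M.toCoxeterSystem hσ1 F1 ht.1 (x := y)
        rw [ht.2.1] at h1
        exact h1
      refine ⟨⟨fun i => b (sr i), hbL⟩, Subtype.ext ?_⟩
      apply hset.inj
      show f (el ⟨fun i => b (sr i), hbL⟩) = f x
      rw [helf]
      have h3 : tt ⟨fun i => b (sr i), hbL⟩ = u⁻¹ * f x * u := by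
        refine cX_inj hp (httT _).1 ht.1 fun i => ?_
        rw [httX, hb, hlamb]
      rw [h3]
      group
  refine H214.XR.x0_eq_kJ_of_abIrr hM hA hd P hab h2 (helP ⟨c0, hc0⟩) (help _) ?_
  intro n _ hn x hx _
  have h3 : u⁻¹ * f n * u ∈ TT D k := by
    refine mem_of_comm hp (r := r) hk hpp.out hW (s := fun _ => tt ⟨c0, hc0⟩) (fun _ => (httT _).1)
      (fun _ => (httT _).2.2) hroot fun _ => ?_
    have h4 := congrArg f hn
    rw [map_mul, map_mul, helf] at h4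
    calc u⁻¹ * f n * u * tt ⟨c0, hc0⟩ = u⁻¹ * (f n * (u * tt ⟨c0, hc0⟩ * u⁻¹)) * u := by group
      _ = u⁻¹ * (u * tt ⟨c0, hc0⟩ * u⁻¹ * f n) * u := by rw [h4]
      _ = _ := by group
  apply hset.inj
  have h4 := TT_comm hp _ h3 _ ((hmemP x).1 hx).1
  rw [map_mul, map_mul]
  calc f n * f x = u * ((u⁻¹ * f n * u) * (u⁻¹ * f x * u)) * u⁻¹ := by group
    _ = u * ((u⁻¹ * f x * u) * (u⁻¹ * f n * u)) * u⁻¹ := by rw [h4]
    _ = _ := by group

end main

end Cfsg.Agent.H482.XE
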