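import Cfsg.Agent.H936.KE.TE6
import Cfsg.Agent.H296.KB.Rank
import Cfsg.Agent.H508.XR.Defs2

/-!
# S4791 + S4927, row `²E₆(q)`: the number `kJ` of almost `p`-rational characters in the principal block (helper482)

`kJ` version of `H936.KE`: the order of `q` modulo `p` is 3 or 4: `p + 5 ≤ 2 kJ`.
-/

set_option autoImplicit false
set_option linter.unusedSectionVars false
set_option maxRecDepth 100000
set_option maxHeartbeats 4000000

namespace Cfsg.Agent.H482.XE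

open CoxeterSystem Cfsg Cfsg.Lie Cfsg.Lie.ChevalleyDatum
open Cfsg.Agent.ChevalleyStructure Cfsg.Agent.ChevalleyStructure.Elts Cfsg.Agent.ChevalleyStructure.CoxeterGeom
  Cfsg.Agent.ChevalleyStructure.CoxeterGeomTypes Cfsg.Agent.ChevalleyStructure.NPerm
open Cfsg.Agent.Tits.Roots Cfsg.Agent.Tits.Core Cfsg.Agent.Nodes Cfsg.Agent.Nodes.Reps Cfsg.Agent.Nodes.BNOf
  Cfsg.Agent.Nodes.RGDChev Cfsg.Agent.Nodes.Bruhat
open Cfsg.Agent.KFacts.RgdField Cfsg.Agent.KFacts.RgdChevCoord Cfsg.Agent.BpExc.TorCent Cfsg.Agent.BpExc.TorChev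
open Cfsg.Agent.GpExc.Field Cfsg.Agent.BpExc.Tow Cfsg.Agent.BpExc.TowChev Cfsg.Agent.BpExc.Fr
  Cfsg.Agent.BpExc.LangFr Cfsg.Agent.H795.SetCent Cfsg.Agent.H795.Toral Cfsg.Agent.H795.Core
  Cfsg.Agent.H795.RootConn Cfsg.Agent.H795.SetTor Cfsg.Agent.H129.TorusChar Cfsg.Agent.H129.TorusUntw
  Cfsg.Agent.H129.WData Cfsg.Agent.H795.Reduce Cfsg.Agent.H795.LangT
  Cfsg.Agent.BpExc Cfsg.Agent.H210.EL Cfsg.Agent.H440.TD4 Cfsg.Agent.H765.KE Cfsg.Agent.H508.KB Cfsg.Agent.H720.TwFr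
  Cfsg.Agent.H795.Tw Cfsg.Agent.H936.KE Cfsg.Agent.H508.XR

universe u v

/-- D8J -/
def KJTwo (p : ℕ) (M : Ideal AlgInt) : Prop :=
  ∀ (S : Type u) [Group S] [Finite S] (x x' : S) (_ : orderOf x = p) (_ : orderOf x' = p)
    (e e' b b' : ℕ) (_ : ∀ (g : S) (i : ℕ), g * x * g⁻¹ = x ^ i → (i : ZMod p) ^ e = 1)
    (_ : ∀ (g : S) (i : ℕ), g * x' * g⁻¹ = x' ^ i → (i : ZMod p) ^ e' = 1)
    (_ : ∀ (g : S) (i : ℕ), g * x * g⁻¹ ≠ x' ^ i)
    (_ : b ≤ blockRank p (principalBlock M ↥(Subgroup.centralizer ({x} : Set S))))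
    (_ : b' ≤ blockRank p (principalBlock M ↥(Subgroup.centralizer ({x'} : Set S)))),
    (p - 1) / e * b + (p - 1) / e' * b' + blockRank p (principalBlock M S) ≤ kJ p M S

section

variable {D : ChevalleyDatum} {l : ℕ} {M : CoxeterMatrix (Fin l)} {hp : IsType D l M} {p Q : ℕ} [hpp : Fact p.Prime]
  {g : (Fin l → ℤ) ≃+ (Fin l → ℤ)} {w : M.Group} {G : Type v} [Group G] [Finite G] {X : (Fin l → ZMod p) → G}

/-- **Two lines.** -/
theorem two_lines {Mi : Ideal AlgInt} (hM : IsPModular p Mi) (h11 : 11 ≤ p) (K : KJTwo.{v} p Mi)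
    (m : ModelS hp p Q g w X) {Th : Mat l} {q : ZMod p} {s t : ℤ}
    (hTh : ∀ j, rep M.toCoxeterSystem hp.isCartan w (g (sr j)) = Th j) (hQ : (Q : ZMod p) = q)
    (hq : q ^ 2 = s + t * q) {A B : Fin l → ℤ × ℤ} (hA : ∀ j, plin A (Th j) = pmul s t (0, 1) (A j))
    (hB : ∀ j, plin B (Th j) = pmul s t (0, 1) (B j)) (mA : Sml D l s t A) (mB : Sml D l s t B)
    (hz : zc D l A ≠ zc D l B) (zA : zc D l A ≠ D.nroots) (zB : zc D l B ≠ D.nroots) (e e' b b' : ℕ)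
    (hfA : ∀ (i : ZMod p) (w' : M.Group), (∀ x, lam (i • evv q A) (rep M.toCoxeterSystem hp.isCartan w' x) =
      lam (evv q A) x) → i ^ e = 1)
    (hfB : ∀ (i : ZMod p) (w' : M.Group), (∀ x, lam (i • evv q B) (rep M.toCoxeterSystem hp.isCartan w' x) =
      lam (evv q B) x) → i ^ e' = 1)
    (hb : b ≤ blockRank p (principalBlock Mi ↥(Subgroup.centralizer ({X (evv q A)} : Set G))))
    (hb' : b' ≤ blockRank p (principalBlock Mi ↥(Subgroup.centralizer ({X (evv q B)} : Set G)))) {r : Fin D.nroots}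
    (hr : lam (evv q A) (vec D l r) ≠ 0) :
    (p - 1) / e * b + (p - 1) / e' * b' + 2 ≤ kJ p Mi G := by
  have hcA := mem_Lam hp hTh hQ hq hA
  have hcB := mem_Lam hp hTh hQ hq hB
  have nA := evv_ne_zero hq h11 mA zA
  have nB := evv_ne_zero hq h11 mB zB
  have h2 := m.two_le_rank_top hM hcA (isRoot_vec hp M.toCoxeterSystem r.2) hr
  refine le_trans (Nat.add_le_add_left h2 _) (K G (X (evv q A)) (X (evv q B)) ((order_X m hcA nA).trans (pow_one p))
    ((order_X m hcB nB).trans (pow_one p)) e e' b b' ?_ ?_ ?_ hb hb')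
  · intro x i hx
    obtain ⟨w', hw'⟩ := fus_X m hcA hcA hx
    exact hfA _ w' hw'
  · intro x i hx
    obtain ⟨w', hw'⟩ := fus_X m hcB hcB hx
    exact hfB _ w' hw'
  · intro x i hx
    obtain ⟨w', hw'⟩ := fus_X m hcA hcB hx
    by_cases hi : (i : ZMod p) = 0
    · have h3 : X (evv q A) = 1 := by
        rw [← X_smul m hcB, hi, zero_smul, X_zero m] at hx
        exact conj_eq_one_iff.1 hx
      exact nA (m.inj _ hcA h3)
    · exact hz (zc_eq hp hq h11 mA mB hi hw')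

/-- the scalars in the fusion are not zero -/
theorem scal_pow (hq0 : True) {c : Fin l → ZMod p} (hc : c ≠ 0) {i : ZMod p} {w' : M.Group}
    (h : ∀ x, lam (i • c) (rep M.toCoxeterSystem hp.isCartan w' x) = lam c x) : i ^ (p - 1) = 1 := by
  apply ZMod.pow_card_sub_one_eq_one
  rintro rfl
  apply hc
  funext j
  have h1 := h (sr j)
  rw [lam_sr] at h1
  rw [← h1, zero_smul]
  unfold lam
  simp

end

section main

variable {p : ℕ} [hpp : Fact p.Prime] {Mi : Ideal AlgInt} {S : Type v} [Group S] [Finite S] {F : Type u} [Field F]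
  [Fintype F] {q : ℕ}

open Cfsg.Agent.H936.KE.TE6

variable (hM : IsPModular p Mi) (h11 : 11 ≤ p) (K : KJTwo.{v} p Mi) (hpF : (p : F) ≠ 0) (hq : IsPrimePow q)
  (hK : Fintype.card F = q ^ 2) (e : S ≃* ↥(twistedE6 F q))

include hM h11 K hpF hq hK e in
/-- `p + 5 ≤ 2 kJ`, order 3 -/
theorem kj_three (hd : orderOf (q : ZMod p) = 3) : p + 5 ≤ 2 * kJ p Mi S := by
  obtain ⟨X, m⟩ := exists_X h11 hpF hq hK e (CoxeterMatrix.E₆.toCoxeterSystem.wordProd (ch3.map Prod.fst))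
  have hr := rel_of_order hd
  have hTh := lin_of ch3_ok th3_eq
  have hcA := mem_Lam hp6 hTh rfl hr e3A
  have hcB := mem_Lam hp6 hTh rfl hr e3B
  obtain ⟨ra, hra⟩ := root_a
  obtain ⟨rb, hrb⟩ := root_4
  have hB1 : lam (evv (q : ZMod p) v3B) (vec chevE6 6 ra) ≠ 0 := by
    rw [lam_evv, hra]
    exact ev_ne_zero hr (by decide +kernel) (lt_of_eq_of_lt (b := 1) (by decide +kernel) (by omega))
  have hA1 : lam (evv (q : ZMod p) v3A) (vec chevE6 6 rb) ≠ 0 := by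
    rw [lam_evv, hrb]
    exact ev_ne_zero hr (by decide +kernel) (lt_of_eq_of_lt (b := 1) (by decide +kernel) (by omega))
  have hA0 : lam (evv (q : ZMod p) v3A) (vec chevE6 6 ra) = 0 := by
    rw [lam_evv, hra, show plin v3A ![0, 0, 0, 1, 1, 1] = (0, 0) by decide +kernel, ev_zero]
  have hB0 : lam (evv (q : ZMod p) v3B) (vec chevE6 6 rb) = 0 := by
    rw [lam_evv, hrb, show plin v3B ![0, 0, 0, 0, 1, 0] = (0, 0) by decide +kernel, ev_zero]
  have h1 := two_lines hM h11 K m hTh rfl hr e3A e3B m3A m3B (by rw [z3A, z3B]; decide) (by rw [z3A, Cfsg.Agent.H936.KE.TE6.nr]; decide)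
    (by rw [z3B, Cfsg.Agent.H936.KE.TE6.nr]; decide) 6 6 2 2
    (fun i w' h => pow_eq_one_of_psum hp6 hr h 6 s3A_6 (int_ne 3 (by decide) h11))
    (fun i w' h => pow_eq_one_of_psum hp6 hr h 6 s3B_6 (int_ne 5 (by decide) h11))
    (m.two_le_rank hM hcA hcB (isRoot_vec hp6 _ ra.2) hA0 hB1)
    (m.two_le_rank hM hcB hcA (isRoot_vec hp6 _ rb.2) hB0 hA1) hA1
  have h3 := dvd_of_order hd (by norm_num)
  have h2 : 2 ∣ p - 1 := (hpp.out.even_sub_one (by omega)).two_dvd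
  omega

include hM h11 K hpF hq hK e in
/-- `p + 5 ≤ 2 kJ`, order 4 -/
theorem kj_four (hd : orderOf (q : ZMod p) = 4) : p + 5 ≤ 2 * kJ p Mi S := by
  obtain ⟨X, m⟩ := exists_X h11 hpF hq hK e (CoxeterMatrix.E₆.toCoxeterSystem.wordProd (ch4.map Prod.fst))
  have hr := rel_of_order4 hd
  have h3 := dvd_of_order hd (by norm_num)
  have hTh := lin_of ch4_ok th4_eq
  have hcA := mem_Lam hp6 hTh rfl hr e4A
  have hcB := mem_Lam hp6 hTh rfl hr e4B
  obtain ⟨ra, hra⟩ := root_5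
  obtain ⟨rb, hrb⟩ := root_4
  have hB1 : lam (evv (q : ZMod p) v4B) (vec chevE6 6 ra) ≠ 0 := by
    rw [lam_evv, hra]
    exact ev_ne_zero hr (by decide +kernel) (lt_of_eq_of_lt (b := 1) (by decide +kernel) (by omega))
  have hA1 : lam (evv (q : ZMod p) v4A) (vec chevE6 6 rb) ≠ 0 := by
    rw [lam_evv, hrb]
    exact ev_ne_zero hr (by decide +kernel) (lt_of_eq_of_lt (b := 1) (by decide +kernel) (by omega))
  have hA0 : lam (evv (q : ZMod p) v4A) (vec chevE6 6 ra) = 0 := by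
    rw [lam_evv, hra, show plin v4A ![0, 0, 0, 0, 0, 1] = (0, 0) by decide +kernel, ev_zero]
  have nB := evv_ne_zero hr h11 m4B (by rw [z4B, Cfsg.Agent.H936.KE.TE6.nr]; decide)
  have h1 := two_lines hM h11 K m hTh rfl hr e4A e4B m4A m4B (by rw [z4A, z4B]; decide) (by rw [z4A, Cfsg.Agent.H936.KE.TE6.nr]; decide)
    (by rw [z4B, Cfsg.Agent.H936.KE.TE6.nr]; decide) 4 (p - 1) 2 1
    (fun i w' h => by
      have h5 := pow_eq_one_of_psum hp6 hr h 8 s4A_8 (int_ne 5 (by decide) h11)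
      have h6 := pow_eq_one_of_psum hp6 hr h 12 s4A_12 (int_ne31 5 (by decide) h11 h3)
      rw [show 12 = 8 + 4 from rfl, pow_add, h5, one_mul] at h6
      exact h6)
    (fun i w' h => scal_pow (hp := hp6) trivial nB h)
    (m.two_le_rank hM hcA hcB (isRoot_vec hp6 _ ra.2) hA0 hB1) (H296.KB.one_le_rank hM) hA1
  have h6 : (p - 1) / (p - 1) = 1 := Nat.div_self (by omega)
  rw [h6] at h1
  omega

end main

end Cfsg.Agent.H482.XE
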