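import Cfsg.Agent.H482.XE.Ht
import Cfsg.Agent.H482.XE.KJ
import Cfsg.Agent.H76.KJ.Basic
import Cfsg.Agent.H795.ExcRow

/-!
# S4791 + S4927, row `²E₆(q)`: `x0 = kJ` for the orders 3 and 4 of `q` modulo `p` (helper482)
-/

set_option autoImplicit false
set_option linter.unusedSectionVars false
set_option maxRecDepth 100000
set_option maxHeartbeats 4000000

namespace Cfsg.Agent.H482.XE

open CoxeterSystem Cfsg Cfsg.Lie Cfsg.Lie.ChevalleyDatum
open Cfsg.Agent.ChevalleyStructure Cfsg.Agent.ChevalleyStructure.Elts Cfsg.Agent.ChevalleyStructure.CoxeterGeom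
  Cfsg.Agent.ChevalleyStructure.CoxeterGeomTypes Cfsg.Agent.ChevalleyStructure.NPerm
open Cfsg.Agent.Tits.Roots Cfsg.Agent.Tits.Core Cfsg.Agent.Nodes Cfsg.Agent.Nodes.Reps Cfsg.Agent.Nodes.BNOf
  Cfsg.Agent.Nodes.RGDChev Cfsg.Agent.Nodes.Bruhat
open Cfsg.Agent.KFacts.RgdField Cfsg.Agent.KFacts.RgdChevCoord Cfsg.Agent.BpExc.TorCent Cfsg.Agent.BpExc.TorChev
open Cfsg.Agent.GpExc.Field Cfsg.Agent.BpExc.Tow Cfsg.Agent.BpExc.TowChev Cfsg.Agent.BpExc.Fr
  Cfsg.Agent.BpExc.LangFr Cfsg.Agent.H795.SetCent Cfsg.Agent.H795.Toral Cfsg.Agent.H795.Core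
  Cfsg.Agent.H795.RootConn Cfsg.Agent.H795.SetTor Cfsg.Agent.H129.TorusChar Cfsg.Agent.H129.TorusUntw
  Cfsg.Agent.H129.WData Cfsg.Agent.H795.Reduce Cfsg.Agent.H795.LangT
  Cfsg.Agent.BpExc Cfsg.Agent.H210.EL Cfsg.Agent.H440.TD4 Cfsg.Agent.H765.KE Cfsg.Agent.H720.TwFr
  Cfsg.Agent.H795.Tw Cfsg.Agent.H936.KE Cfsg.Agent.H508.XR

universe u v

/-! ### general lemmas -/

section gen

variable {D : ChevalleyDatum} {l : ℕ} {M : CoxeterMatrix (Fin l)} {hp : IsType D l M} {p Q : ℕ} [hpp : Fact p.Prime]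
  {g : (Fin l → ℤ) ≃+ (Fin l → ℤ)} {w : M.Group}

/-- no root value in `ℤ[q]` is zero: no root value modulo `p` is zero -/
theorem reg_of_sml {q : ZMod p} {s t : ℤ} (hq : q ^ 2 = s + t * q) (h11 : 11 ≤ p) {A : Fin l → ℤ × ℤ}
    (h : Sml D l s t A) (hz : zc D l A = 0) (a : Fin l → ℤ) (ha : IsRoot M.toCoxeterSystem hp.isCartan a) :
    lam (evv q A) a ≠ 0 := by
  obtain ⟨r, hr, rfl⟩ := (isRoot_iff hp M.toCoxeterSystem a).1 ha
  intro h0
  have h1 := sum_zero hq h11 h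
  rw [hz] at h1
  have h2 := (Finset.sum_eq_zero_iff_of_nonneg (fun _ _ => Nat.zero_le _)).1 h1 ⟨r, hr⟩ (Finset.mem_univ _)
  rw [if_pos h0] at h2
  omega

/-- an eigenspace of dimension two -/
theorem card_Lam_two (i j : Fin l) (hinj : ∀ c ∈ Lam hp p Q g w, c i = 0 → c j = 0 → c = 0) {A B : Fin l → ZMod p}
    (hA : A ∈ Lam hp p Q g w) (hB : B ∈ Lam hp p Q g w) (hdet : A i * B j - A j * B i ≠ 0) :
    Nat.card ↥(Lam hp p Q g w) = p ^ 2 := by
  have e : Function.Bijective (fun c : ↥(Lam hp p Q g w) => ((c.1 i, c.1 j) : ZMod p × ZMod p)) := by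
    constructor
    · rintro ⟨c, hc⟩ ⟨c', hc'⟩ h
      have h1 : c i = c' i := congrArg Prod.fst h
      have h2 : c j = c' j := congrArg Prod.snd h
      have h3 := hinj (c + (-1 : ZMod p) • c') (Lam.add hp hc (Lam.smul hp _ hc'))
        (by rw [Pi.add_apply, Pi.smul_apply, h1, smul_eq_mul]; ring)
        (by rw [Pi.add_apply, Pi.smul_apply, h2, smul_eq_mul]; ring)
      apply Subtype.ext
      funext n
      have h4 := congrFun h3 n
      rw [Pi.add_apply, Pi.smul_apply, smul_eq_mul, Pi.zero_apply] at h4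
      linear_combination h4
    · rintro ⟨x, y⟩
      refine ⟨⟨((x * B j - y * B i) / (A i * B j - A j * B i)) • A + ((A i * y - A j * x) / (A i * B j - A j * B i)) • B,
        Lam.add hp (Lam.smul hp _ hA) (Lam.smul hp _ hB)⟩, ?_⟩
      refine Prod.ext ?_ ?_
      · show (x * B j - y * B i) / (A i * B j - A j * B i) * A i + (A i * y - A j * x) / (A i * B j - A j * B i) * B i = x
        rw [div_mul_eq_mul_div, div_mul_eq_mul_div, ← add_div, div_eq_iff hdet]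
        ring
      · show (x * B j - y * B i) / (A i * B j - A j * B i) * A j + (A i * y - A j * x) / (A i * B j - A j * B i) * B j = y
        rw [div_mul_eq_mul_div, div_mul_eq_mul_div, ← add_div, div_eq_iff hdet]
        ring
  rw [Nat.card_congr (Equiv.ofBijective _ e), Nat.card_prod, Nat.card_zmod, sq]

/-- the equations of the eigenspace -/
theorem Lam_eq {Th : Mat l} (hTh : ∀ j, rep M.toCoxeterSystem hp.isCartan w (g (sr j)) = Th j) {c : Fin l → ZMod p}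
    (hc : c ∈ Lam hp p Q g w) (j : Fin l) : ∑ n, (Th j n : ZMod p) * c n = (Q : ZMod p) * c j := by
  have h := hc (sr j)
  rw [hTh, lam_sr] at h
  exact h

end gen

/-! ### the data -/

/-- a regular eigenvector, order 3 -/
def v3R : Fin 6 → ℤ × ℤ := ![(-2, 0), (1, 1), (1, -1), (0, -1), (1, 3), (-2, -2)]

theorem e3R : ∀ j, plin v3R (TE6.Th3 j) = pmul (-1) (-1) (0, 1) (v3R j) := by decide +kernel
theorem m3R : Sml chevE6 6 (-1) (-1) v3R := by decide +kernel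
theorem z3R : zc chevE6 6 v3R = 0 := by decide +kernel

section main

variable {p : ℕ} [hpp : Fact p.Prime] {Mi : Ideal AlgInt} {S : Type v} [Group S] [Finite S] {F : Type u} [Field F]
  [Fintype F] {q : ℕ}

theorem inj3 {Q : ℕ} {w : CoxeterMatrix.E₆.Group} {x : ZMod p} (hr : x ^ 2 = ((-1 : ℤ) : ZMod p) + ((-1 : ℤ) : ZMod p) * x)
    (h2 : (2 : ZMod p) ≠ 0) (hQ : (Q : ZMod p) = x)
    (hTh : ∀ j, rep CoxeterMatrix.E₆.toCoxeterSystem hp6.isCartan w (permE rho6 (sr j)) = TE6.Th3 j)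
    {c : Fin 6 → ZMod p} (hc : c ∈ Lam hp6 p Q (permE rho6) w) (hc2 : c 2 = 0) (hc4 : c 4 = 0) : c = 0 := by
  have h0 := Lam_eq hTh hc 0
  have h1 := Lam_eq hTh hc 1
  have h3 := Lam_eq hTh hc 2
  have h4 := Lam_eq hTh hc 3
  have h5 := Lam_eq hTh hc 4
  have h6 := Lam_eq hTh hc 5
  rw [hQ] at h0 h1 h3 h4 h5 h6
  simp [Fin.sum_univ_six, TE6.Th3] at h0 h1 h3 h4 h5 h6 hr
  have hx0 : x ≠ 0 := by
    rintro rfl
    norm_num at hr
  have e3 : c 3 = 0 := by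
    rw [hc2, hc4] at h3
    linear_combination h3
  have e1 : c 1 = 0 := by
    rw [e3] at h4
    linear_combination h4
  have e5 : c 5 = 0 := by
    have h7 : (2 * x) * c 5 = 0 := by
      linear_combination (x - 1) * h6 - h0 + c 5 * hr + e1 + 2 * hc2 + 2 * e3 + hc4
    exact (mul_eq_zero.1 h7).resolve_left (mul_ne_zero h2 hx0)
  have e0 : c 0 = 0 := by
    rw [e5] at h6
    linear_combination -h6
  funext n
  fin_cases n <;> assumption

theorem inj4 {Q : ℕ} {w : CoxeterMatrix.E₆.Group} {x : ZMod p} (hr : x ^ 2 = ((-1 : ℤ) : ZMod p) + ((0 : ℤ) : ZMod p) * x)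
    (hQ : (Q : ZMod p) = x)
    (hTh : ∀ j, rep CoxeterMatrix.E₆.toCoxeterSystem hp6.isCartan w (permE rho6 (sr j)) = TE6.Th4 j)
    {c : Fin 6 → ZMod p} (hc : c ∈ Lam hp6 p Q (permE rho6) w) (hc2 : c 2 = 0) (hc3 : c 3 = 0) : c = 0 := by
  have h0 := Lam_eq hTh hc 0
  have h1 := Lam_eq hTh hc 1
  have h3 := Lam_eq hTh hc 2
  have h4 := Lam_eq hTh hc 3
  have h5 := Lam_eq hTh hc 4
  have h6 := Lam_eq hTh hc 5
  rw [hQ] at h0 h1 h3 h4 h5 h6
  simp [Fin.sum_univ_six, TE6.Th4] at h0 h1 h3 h4 h5 h6 hr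
  have hx0 : x ≠ 0 := by
    rintro rfl
    norm_num at hr
  have e4 : c 4 = 0 := by
    rw [hc2, hc3] at h3
    linear_combination h3
  have e5 : c 5 = 0 := by
    linear_combination h4 + h5 + x * hc3 + x * e4
  have e1 : c 1 = 0 := by
    have h7 : x * c 1 = 0 := by
      linear_combination -h1 - h4 - hc3 - x * hc3
    exact (mul_eq_zero.1 h7).resolve_left hx0
  have e0 : c 0 = 0 := by
    have h7 : x * c 0 = 0 := by
      linear_combination -h0 + e1 + hc2 + hc3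
    exact (mul_eq_zero.1 h7).resolve_left hx0
  funext n
  fin_cases n <;> assumption

/-- D8J -/
theorem kjTwo (hM : IsPModular p Mi) (h3 : p ≠ 2) : KJTwo.{v} p Mi := by
  intro S _ _ x x' hx hx' e e' b b' h1 h2 h4 h5 h6
  exact H76.KJ.kJ_of_two h3 hM x x' hx hx' e e' b b' h1 h2 h4 h5 h6

/-- **`x0 = kJ` for `²E₆(q)`, `q` of order 3 or 4.** -/
theorem x0_eq_kJ_TE6 (hM : IsPModular p Mi) (h11 : 11 ≤ p) (hpF : (p : F) ≠ 0) (hq : IsPrimePow q)
    (hK : Fintype.card F = q ^ 2) (e : S ≃* ↥(twistedE6 F q)) (hpS : p ∣ Nat.card S)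
    (ho : orderOf (q : ZMod p) = 3 ∨ orderOf (q : ZMod p) = 4) : H674.XZ.x0 p Mi S = kJ p Mi S := by
  obtain ⟨r, n, hr, hrF, hrk, hn0, hn, hk⟩ := exists_closure_q two_ne_zero hq hK
  have hpr : p ≠ r := by
    rintro rfl
    exact hpF (CharP.cast_eq_zero F p)
  have hset := TE6.setup_comp (setup_six (algebraMap F (AlgebraicClosure F)) r hk hn0 hn hK (p := p) (by omega)) e
  have hA : H795.AbIrr p S := (H795.ExcRow.row_congr e (twE6 (by omega) hpF hq hK)).1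
  have hQ : ((r ^ n : ℕ) : ZMod p) = (q : ZMod p) := by rw [← hn]
  have h2 : (2 : ZMod p) ≠ 0 := by
    intro h
    have h1 : ((2 : ℕ) : ZMod p) = 0 := by exact_mod_cast h
    have h3 := Nat.le_of_dvd (by norm_num) ((ZMod.natCast_eq_zero_iff 2 p).1 h1)
    omega
  rcases ho with ho | ho
  · have hr3 := TE6.rel_of_order ho
    have hTh := TE6.lin_of TE6.ch3_ok TE6.th3_eq
    refine x0_eq_kJ_of_lam (hp := hp6) hk hM hA hpS hset hpr (TE6.not_dvd_W h11) invC_E6 three_ne_zero _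
      (mem_Lam hp6 hTh hQ hr3 e3R) (reg_of_sml (hp := hp6) hr3 h11 m3R z3R) ?_
    refine card_Lam_two 2 4 (fun c hc => inj3 hr3 h2 hQ hTh hc) (mem_Lam hp6 hTh hQ hr3 TE6.e3A)
      (mem_Lam hp6 hTh hQ hr3 TE6.e3B) ?_
    show (((1 : ℤ) : ZMod p) + ((1 : ℤ) : ZMod p) * q) * (((0 : ℤ) : ZMod p) + ((0 : ℤ) : ZMod p) * q) -
      (((-1 : ℤ) : ZMod p) + ((-1 : ℤ) : ZMod p) * q) * (((2 : ℤ) : ZMod p) + ((2 : ℤ) : ZMod p) * q) ≠ 0
    push_cast at hr3 ⊢
    intro h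
    have h4 : (2 : ZMod p) * q = 0 := by linear_combination h - 2 * hr3
    rcases mul_eq_zero.1 h4 with h5 | h5
    · exact h2 h5
    · rw [h5] at hr3
      norm_num at hr3
  · have hr4 := TE6.rel_of_order4 ho
    have hTh := TE6.lin_of TE6.ch4_ok TE6.th4_eq
    refine x0_eq_kJ_of_lam (hp := hp6) hk hM hA hpS hset hpr (TE6.not_dvd_W h11) invC_E6 three_ne_zero _
      (mem_Lam hp6 hTh hQ hr4 TE6.e4B) (reg_of_sml (hp := hp6) hr4 h11 TE6.m4B TE6.z4B) ?_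
    refine card_Lam_two 2 3 (fun c hc => inj4 hr4 hQ hTh hc) (mem_Lam hp6 hTh hQ hr4 TE6.e4A)
      (mem_Lam hp6 hTh hQ hr4 TE6.e4B) ?_
    show (((0 : ℤ) : ZMod p) + ((0 : ℤ) : ZMod p) * q) * (((-1 : ℤ) : ZMod p) + ((-1 : ℤ) : ZMod p) * q) -
      (((-1 : ℤ) : ZMod p) + ((0 : ℤ) : ZMod p) * q) * (((-1 : ℤ) : ZMod p) + ((0 : ℤ) : ZMod p) * q) ≠ 0
    push_cast
    intro h
    have h4 : (1 : ZMod p) = 0 := by linear_combination -h
    exact one_ne_zero h4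

/-- **`p + 5 ≤ 2 x0` for `²E₆(q)`, `q` of order 3 or 4.** -/
theorem le_x0_TE6 (hM : IsPModular p Mi) (h11 : 11 ≤ p) (hpF : (p : F) ≠ 0) (hq : IsPrimePow q)
    (hK : Fintype.card F = q ^ 2) (e : S ≃* ↥(twistedE6 F q)) (hpS : p ∣ Nat.card S)
    (ho : orderOf (q : ZMod p) = 3 ∨ orderOf (q : ZMod p) = 4) : p + 5 ≤ 2 * H674.XZ.x0 p Mi S := by
  rw [x0_eq_kJ_TE6 hM h11 hpF hq hK e hpS ho]
  have K := kjTwo hM (show p ≠ 2 by omega)
  rcases ho with ho | ho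
  · exact kj_three hM h11 K hpF hq hK e ho
  · exact kj_four hM h11 K hpF hq hK e ho

end main

end Cfsg.Agent.H482.XE
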